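import Groth.Prelude.Def_Canon
import Groth.Agent.Surf.K455.SmoothRR
import Groth.Agent.Surf.K455.Pos
import Groth.Agent.Surf.K455.Growth
import Groth.Agent.Surf.K455.Proj
import Groth.Agent.Surf.K464.Cohom
import Groth.Agent.VarietyA.CurveFin

/-!
# K3 surfaces: Euler characteristics of invertible modules

`X` an integral scheme, smooth and proper over an algebraically closed field, of dimension two, with
`Λ² Ω ≅ O` and `h¹(O) = 0`.
* `smoothOfRelDim`: `X` is smooth of relative dimension two;
* `euler_one`: `χ(O) = 2`;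
* `rr`: `2 χ(L) = (L·L) + 4`;
* `iso_of_numTriv`: numerically trivial invertible modules are trivial.
-/

set_option autoImplicit false
universe u
open CategoryTheory CategoryTheory.Limits AlgebraicGeometry TopologicalSpace

namespace K365.K3Base

open Groth.Agent Groth.Agent.Ega2 Groth.Agent.Fga.PicMon Groth.Agent.Grpsch.PicGrp K455

variable (k : Type u) [Field k] {X : Scheme.{u}} [X.Over (Spec (CommRingCat.of k))] [IsIntegral X]
  [Smooth (X ↘ Spec (CommRingCat.of k))] (hdim : topologicalKrullDim X = 2)
  [IsProper (X ↘ Spec (CommRingCat.of k))]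

include hdim in
theorem smoothOfRelDim : SmoothOfRelativeDimension 2 (X ↘ Spec (CommRingCat.of k)) := by
  have : IsNoetherian X := Fga.SnapperTwist.isNoetherian_of_proper k X
  exact RelDim.smoothOfRelativeDimension k _ 2 (Proj.dim_components hdim)

variable (hK : Canon.IsTopDiff (X ↘ Spec (CommRingCat.of k)) 2 (Coh.structureModule X))

include hdim hK

/-- `h²(L) = h⁰(L⁻¹)`. -/
theorem finrank_two {L L' : X.Modules} (hL : PicF.IsInvertible L)
    (e : Nonempty (CohB1.tensorMod L L' ≅ Coh.structureModule X)) :
    Module.finrank k (Coh.HH X L 2) = Module.finrank k (Coh.HH X L' 0) := by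
  have := smoothOfRelDim k hdim
  rw [SmoothRR.finrank_dual k hK hL e 0 2 rfl]
  exact K464.Cohom.finrank_congr k (Tens.lunit L') 0

theorem finrank_one_two [IsAlgClosed k] : Module.finrank k (Coh.HH X (Coh.structureModule X) 2) = 1 := by
  rw [finrank_two k hdim hK (L := Coh.structureModule X) (L' := Coh.structureModule X)
    Fdesc.LocGen.isInvertible_structureModule ⟨Tens.runit _⟩]
  exact VarietyA.CurveFin.finrank_h0_structure k X

variable (hq : Module.finrank k (Coh.HH X (Coh.structureModule X) 1) = 0)

include hq in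
/-- `χ(O) = 2`. -/
theorem euler_one [IsAlgClosed k] : FGA.eulerCharLE k X (Coh.structureModule X) 2 = 2 := by
  unfold FGA.eulerCharLE
  simp only [Finset.sum_range_succ, Finset.sum_range_zero]
  rw [hq, finrank_one_two k hdim hK, VarietyA.CurveFin.finrank_h0_structure k X]
  norm_num

include hq in
/-- **Riemann–Roch** on a K3 surface. -/
theorem rr [IsAlgClosed k] {L : X.Modules} (hL : PicF.IsInvertible L) :
    2 * FGA.eulerCharLE k X L 2 = FGA.intNum k X 2 ![L, L] (Coh.structureModule X) + 4 := by
  have := smoothOfRelDim k hdim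
  have h := SmoothRR.rr k hK hdim.le hL
  rw [euler_one k hdim hK hq, RR.intNum_one_right k (B := Coh.structureModule X) mc_one] at h
  linarith

include hq in
/-- If `(L·L) ≥ -2`, then `L` or its inverse has a nonzero section. -/
theorem exists_section [IsAlgClosed k] {L L' : X.Modules} (hL : PicF.IsInvertible L)
    (e : Nonempty (CohB1.tensorMod L L' ≅ Coh.structureModule X))
    (h : -4 < FGA.intNum k X 2 ![L, L] (Coh.structureModule X)) :
    (∃ s : Γ(L, ⊤), s ≠ 0) ∨ ∃ s : Γ(L', ⊤), s ≠ 0 := by
  have h1 := rr k hdim hK hq hL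
  have h2 := Fga.HodgeSec.euler_le (Z := X) k L
  rw [finrank_two k hdim hK hL e] at h2
  have h3 : (0 : ℤ) < Module.finrank k (Coh.HH X L 0) + Module.finrank k (Coh.HH X L' 0) := by linarith
  have h4 : 0 < Module.finrank k (Coh.HH X L 0) + Module.finrank k (Coh.HH X L' 0) := by exact_mod_cast h3
  rcases Nat.eq_zero_or_pos (Module.finrank k (Coh.HH X L 0)) with h5 | h5
  · rw [h5, zero_add] at h4
    exact Or.inr (Growth.exists_section_of_pos k h4)
  · exact Or.inl (Growth.exists_section_of_pos k h5)

include hq in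
/-- An invertible module with `(L·L) = (L·H) = 0` is trivial. -/
theorem iso_of_numTriv [IsAlgClosed k] {H : X.Modules} (hH : CohB1.IsAmple H) {L : X.Modules}
    (hL : PicF.IsInvertible L) (hLL : FGA.intNum k X 2 ![L, L] (Coh.structureModule X) = 0)
    (hLH : FGA.intNum k X 2 ![L, H] (Coh.structureModule X) = 0) : Nonempty (L ≅ Coh.structureModule X) := by
  obtain ⟨L', hL', e⟩ := exists_inverse hL
  have hmc : mc L * mc L' = 1 := by
    rw [← mc_tensor, ← mc_one, mc_eq_iff]
    exact e
  rw [← mc_eq_iff, mc_one]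
  rcases exists_section k hdim hK hq hL e (by rw [hLL]; norm_num) with ⟨s, hs⟩ | ⟨s, hs⟩
  · exact (Pos.intNum_nonneg_of_section k hdim hH hL s hs).2 hLH
  · have h1 := (Pos.intNum_nonneg_of_section k hdim hH hL' s hs).2
      (by rw [RR.intNum_inv_left k hdim.le L L' H hL hL' hmc hH.1, hLH, neg_zero])
    rwa [h1, mul_one] at hmc

end K365.K3Base
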